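import Groth.Agent.FGA.K992.RefIdeal
import Groth.Agent.HilbNum.K822.Main
import Groth.Agent.ShStab.K848.HB
import Groth.Agent.ShStab.K849.HilbFacts
import Groth.Agent.Sga5.ProjReg
import Groth.Agent.CurvesC.DualDeg
import Groth.Agent.S4466
import Groth.Agent.S10960
import Mathlib.Algebra.Group.ForwardDiff

/-!
# Ideals on projective space with the Hilbert polynomial of a hypersurface
-/

set_option autoImplicit false
universe u

open CategoryTheory CategoryTheory.Limits AlgebraicGeometry TopologicalSpace Opposite Polynomial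
open Groth.Agent Groth.Agent.Fga.PicMon Groth.Agent.CycB.StalkExact K475.GenStalk

namespace K992.HypIdeal

/-! ### Differences of binomial coefficients -/

theorem fwd_choose (b : ℤ) (j : ℕ) : ∀ k : ℕ,
    (fwdDiff (1 : ℕ))^[k] (fun m : ℕ => ((Ring.choose ((m : ℤ) + b) (k + j) : ℤ) : ℚ)) =
      fun m : ℕ => ((Ring.choose ((m : ℤ) + b) j : ℤ) : ℚ)
  | 0 => by simp
  | k + 1 => by
    rw [Function.iterate_succ_apply, ← fwd_choose b j k]
    congr 1
    funext m
    rw [fwdDiff]
    have h := Ring.choose_succ_succ ((m : ℤ) + b) (k + j)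
    have e1 : ((m + 1 : ℕ) : ℤ) + b = (m : ℤ) + b + 1 := by push_cast; ring
    have e2 : k + 1 + j = k + j + 1 := by ring
    rw [e1, e2, h]
    push_cast
    ring

theorem fwd_cast (f : ℚ → ℚ) : ∀ k : ℕ, (fwdDiff (1 : ℕ))^[k] (fun m : ℕ => f m) =
    fun m : ℕ => (fwdDiff (1 : ℚ))^[k] f m
  | 0 => rfl
  | k + 1 => by
    rw [Function.iterate_succ_apply', fwd_cast f k]
    funext m
    rw [Function.iterate_succ_apply', fwdDiff, fwdDiff]
    push_cast
    rfl

theorem eq_of_eval {r : ℕ} (hr : 1 ≤ r) {b c : ℤ} {P : ℚ[X]} (hP : P = 0 ∨ P.natDegree + 2 ≤ r)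
    (h : ∀ m : ℕ, P.eval (m : ℚ) = ((Ring.choose ((m : ℤ) + b) r : ℤ) : ℚ) - ((Ring.choose ((m : ℤ) + c) r : ℤ) : ℚ)) :
    b = c := by
  obtain ⟨k, rfl⟩ : ∃ k, r = k + 1 := ⟨r - 1, by omega⟩
  have h0 : (fwdDiff (1 : ℚ))^[k] P.eval = 0 := by
    rcases hP with rfl | hP
    · funext y
      rw [fwdDiff_iter_eq_sum_shift]
      simp
    · exact Polynomial.fwdDiff_iter_eq_zero_of_degree_lt (by omega)
  have h1 : (fwdDiff (1 : ℕ))^[k] (fun m : ℕ => P.eval (m : ℚ)) 0 = 0 := by
    rw [fwd_cast (fun x => P.eval x)]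
    exact congrFun h0 _
  have h2 : (fun m : ℕ => ((Ring.choose ((m : ℤ) + b) (k + 1) : ℤ) : ℚ)) =
      (fun m : ℕ => P.eval (m : ℚ)) + (fun m : ℕ => ((Ring.choose ((m : ℤ) + c) (k + 1) : ℤ) : ℚ)) := by
    funext m
    rw [Pi.add_apply, h m]
    ring
  have h3 := congrFun (congrArg (fun f : ℕ → ℚ => (fwdDiff (1 : ℕ))^[k] f) h2) 0
  simp only [fwdDiff_iter_add, fwd_choose, Pi.add_apply] at h3
  rw [h1, zero_add, Ring.choose_one_right, Ring.choose_one_right] at h3
  have h4 : ((0 : ℕ) : ℤ) + b = ((0 : ℕ) : ℤ) + c := by exact_mod_cast h3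
  simpa using h4

/-! ### Projective space -/

variable (k : Type u) [Field k] (r : ℕ)

/-- Projective space. -/
noncomputable abbrev PP : Scheme.{u} := CohB1.ProjSpace r k

/-- The twisting modules. -/
noncomputable abbrev Tw (a : ℤ) : (PP k r).Modules := Twist.twistProjSpace r k a

instance isProper_PP : IsProper (PP k r ↘ Spec (CommRingCat.of k)) :=
  VarietyB.ProjSpaceProper.isProper_toSpec r k

theorem dim_le : topologicalKrullDim (PP k r) ≤ r := CohqA.ProjDim.topologicalKrullDim_le k r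

instance : IsLocallyNoetherian (PP k r) := (CohqA.ProjDim.isNoetherian k r).toIsLocallyNoetherian

theorem isInv (a : ℤ) : PicF.IsInvertible (Tw k r a) := S10962.isInvertible_twist (R := k) (n := r) a

theorem isCohTw (a : ℤ) : Coh.IsCoh (Tw k r a) := S2329.isCoh_of_isInvertible (isInv k r a)

theorem euler_tw (hr : 0 < r) (a : ℤ) : Curv2.euler k (PP k r) (Tw k r a) = Ring.choose (a + r) r := by
  rw [← Fga.IntAdd.eulerCharLE_eq k (PP k r) r (dim_le k r)]
  exact S4466.result k r hr a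

theorem mc_twist (F : (PP k r).Modules) (m : ℕ) :
    mc (ShStab.twist (PP k r) (Tw k r 1) F m) = mc F * mc (Tw k r m) := by
  rw [ShStab.twist, mc_tensor, mc_tensorPow, K822.HilbMain.mc_pow, mul_one]

theorem hp_tw (hr : 0 < r) (a : ℤ) (m : ℕ) :
    (K848.HB.hp k (Tw k r 1) (Tw k r a)).eval (m : ℚ) = ((Ring.choose ((m : ℤ) + (a + r)) r : ℤ) : ℚ) := by
  rw [← K848.HB.isHilbPoly_hp k (isInv k r 1) (isCohTw k r a) m]
  obtain ⟨e⟩ := (mc_eq_iff (ShStab.twist (PP k r) (Tw k r 1) (Tw k r a) m) (Tw k r (a + m))).1 (by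
    rw [mc_twist, K822.HilbMain.mc_mul])
  rw [K848.HB.euler_iso k e (K848.HB.isCoh_twist (isInv k r 1) (isCohTw k r a) m), euler_tw k r hr,
    show a + (m : ℤ) + r = m + (a + r) by ring]

variable {k r}

theorem hp_quot {I : (PP k r).IdealSheafData} {f : ℤ → ℤ}
    (hP : ∀ t : ℤ, Curv2.euler k (PP k r) (CohB1.tensorMod (ClSub.quotMod I) (Tw k r t)) = f t) (m : ℕ) :
    (K848.HB.hp k (Tw k r 1) (ClSub.quotMod I)).eval (m : ℚ) = ((f m : ℤ) : ℚ) := by
  have hc := CurvesC.DualDeg.isCoh_quotMod I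
  rw [← K848.HB.isHilbPoly_hp k (isInv k r 1) hc m, ← hP]
  obtain ⟨e⟩ := (mc_eq_iff (ShStab.twist (PP k r) (Tw k r 1) (ClSub.quotMod I) m)
    (CohB1.tensorMod (ClSub.quotMod I) (Tw k r m))).1 (by rw [mc_twist, mc_tensor])
  rw [K848.HB.euler_iso k e (K848.HB.isCoh_twist (isInv k r 1) hc m)]

theorem genInvertible {X : Scheme.{u}} [IsIntegral X] [IsLocallyNoetherian X] {F : X.Modules} (hF : Coh.IsCoh F)
    (φ : F ⟶ Coh.structureModule X) [Mono φ] (h : ¬ Subsingleton (F.presheaf.stalk (η X))) :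
    RefHull.GenInvertible F := by
  rw [K476.Ref1.genInvertible_iff hF]
  rw [not_subsingleton_iff_nontrivial] at h
  obtain ⟨t, ht⟩ := exists_ne (0 : F.presheaf.stalk (η X))
  have hinj := stalkLin_injective φ (η X)
  -- the stalk of the structure module is the function field
  have h0 := K476.TensStalk.isGen_unitGerm (X := X) (η X)
  obtain ⟨a, ha⟩ := h0.2 (stalkLin φ (η X) t)
  have ha' : a • K476.TensStalk.unitGerm (η X) = stalkLin φ (η X) t := ha
  have ha0 : a ≠ 0 := by
    rintro rfl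
    rw [zero_smul] at ha'
    exact ht (hinj (ha'.symm.trans (map_zero _).symm))
  have hu : IsUnit a := by
    have : IsField (X.presheaf.stalk (η X)) := Field.toIsField X.functionField
    obtain ⟨b, hb⟩ := this.mul_inv_cancel ha0
    exact IsUnit.of_mul_eq_one b hb
  refine ⟨t, ?_, ?_⟩
  · intro x y hxy
    have h1 : x • t = y • t := hxy
    have h2 := congrArg (stalkLin φ (η X)) h1
    rw [map_smul, map_smul, ← ha', smul_smul, smul_smul] at h2
    have h3 := h0.1 h2
    exact hu.mul_left_inj.1 h3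
  · intro v
    obtain ⟨b, hb⟩ := h0.2 (stalkLin φ (η X) v)
    have hb' : b • K476.TensStalk.unitGerm (η X) = stalkLin φ (η X) v := hb
    refine ⟨b * hu.unit⁻¹, hinj ?_⟩
    change stalkLin φ (η X) ((b * hu.unit⁻¹) • t) = _
    rw [map_smul, ← ha', ← hb', smul_smul, mul_assoc, IsUnit.val_inv_mul, mul_one]

/-- **Ideals with the Hilbert polynomial of a hypersurface.** -/
theorem main (hr : 1 ≤ r) (d : ℕ) (I : (PP k r).IdealSheafData)
    (hP : ∀ t : ℤ, Curv2.euler k (PP k r) (CohB1.tensorMod (ClSub.quotMod I) (Tw k r t)) =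
      Ring.choose (t + r) r - Ring.choose (t + r - d) r) :
    Nonempty (ClSub.idealMod I ≅ Tw k r (-(d : ℤ))) := by
  have hreg : ∀ x : PP k r, IsRegularLocalRing ((PP k r).presheaf.stalk x) :=
    fun x => Sga5.ProjReg.isRegularLocalRing_stalk r k x
  have hF : Coh.IsCoh (ClSub.idealMod I) := CurvesC.DualDeg.isCoh_idealMod I
  have hQc := CurvesC.DualDeg.isCoh_quotMod I
  have hO : Coh.IsCoh (Coh.structureModule (PP k r)) := (K476.Ref1.isRef1_structureModule (X := PP k r)).1
  have hS := CurvesC.DualDeg.shortExact_ideal I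
  have hm1 : Mono (ClSub.idealModι I) := CohqA.IdealMod.mono_idealModι I
  -- the Hilbert polynomial of the ideal
  have hpO : ∀ m : ℕ, (K848.HB.hp k (Tw k r 1) (Coh.structureModule (PP k r))).eval (m : ℚ) =
      ((Ring.choose ((m : ℤ) + r) r : ℤ) : ℚ) := by
    intro m
    obtain ⟨e⟩ := (mc_eq_iff (Coh.structureModule (PP k r)) (Tw k r 0)).1 (by
      rw [mc_one, K822.HilbMain.mc_zero])
    rw [← K848.HB.hp_iso k (isInv k r 1) hO e, hp_tw k r hr, zero_add]
  have hpF : ∀ m : ℕ, (K848.HB.hp k (Tw k r 1) (ClSub.idealMod I)).eval (m : ℚ) =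
      ((Ring.choose ((m : ℤ) + (r - d)) r : ℤ) : ℚ) := by
    intro m
    have h1 := congrArg (fun P : ℚ[X] => P.eval (m : ℚ)) (K848.HB.hp_add k (isInv k r 1) hS hF hO hQc)
    simp only [eval_add] at h1
    rw [hpO, hp_quot hP m] at h1
    push_cast at h1
    rw [show (m : ℤ) + (r - d) = m + r - d by ring]
    linarith
  have hOi : Inj (Coh.structureModule (PP k r)) :=
    K476.Ref1.inj_of_isReflexive hO K476.Ref1.isRef1_structureModule.2.1
  have hinj : Inj (ClSub.idealMod I) := RefIdeal.inj_of_mono (ClSub.idealModι I) hOi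
  have hne : ¬ Subsingleton ((ClSub.idealMod I).presheaf.stalk (η (PP k r))) := by
    intro hs
    have hz : IsZero (ClSub.idealMod I) := by
      apply CohqB.DevSupport.isZero_of_support_eq_empty
      refine Set.eq_empty_of_forall_notMem fun x hx => hx ?_
      exact (hinj x).subsingleton
    have h0 := hpF d
    rw [K848.HB.hp_isZero k (isInv k r 1) hz, eval_zero, show (d : ℤ) + (r - d) = (r : ℕ) by ring,
      Ring.choose_natCast, Nat.choose_self] at h0
    norm_num at h0
  have hgen := genInvertible hF (ClSub.idealModι I) hne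
  have hmono := RefIdeal.mono_bidual hF hgen hinj
  have hR := K476.Ref1.isRef1_ddual hF hgen
  have hD := S16491.result (PP k r) hreg _ hR.1 hR.2.1 hR.2.2
  obtain ⟨a, ⟨e⟩⟩ := S1697.result k r _ hD
  have hSE : (ShortComplex.mk (RefHull.bidualMap (ClSub.idealMod I)) (cokernel.π _)
      (cokernel.condition _)).ShortExact :=
    { exact := ShortComplex.exact_of_g_is_cokernel _ (cokernelIsCokernel _) }
  have hQ' := CycB.CohProp.isCoh_cokernel (RefHull.bidualMap (ClSub.idealMod I)) hF hR.1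
  have h2 := K848.HB.hp_add k (isInv k r 1) hSE hF hR.1 hQ'
  have hpQ : ∀ m : ℕ, (K848.HB.hp k (Tw k r 1) (cokernel (RefHull.bidualMap (ClSub.idealMod I)))).eval (m : ℚ) =
      ((Ring.choose ((m : ℤ) + (a + r)) r : ℤ) : ℚ) - ((Ring.choose ((m : ℤ) + (r - d)) r : ℤ) : ℚ) := by
    intro m
    have h1 := congrArg (fun P : ℚ[X] => P.eval (m : ℚ)) h2
    simp only [eval_add] at h1
    rw [hpF, ← K848.HB.hp_iso k (isInv k r 1) hR.1 e, hp_tw k r hr] at h1
    linarith
  have hcase : K848.HB.hp k (Tw k r 1) (cokernel (RefHull.bidualMap (ClSub.idealMod I))) = 0 ∨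
      (K848.HB.hp k (Tw k r 1) (cokernel (RefHull.bidualMap (ClSub.idealMod I)))).natDegree + 2 ≤ r := by
    by_cases hz : IsZero (cokernel (RefHull.bidualMap (ClSub.idealMod I)))
    · exact Or.inl (K848.HB.hp_isZero k (isInv k r 1) hz)
    · right
      obtain ⟨s, hs⟩ := K849.HilbFacts.exists_dim k hz
      have h3 := RefIdeal.dim_add_le (c := 2) (dim_le k r) (S0020.result _ _ hQ'.2)
        (fun x hx => RefIdeal.two_le hF hgen hinj hreg hx) hs
      have h4 := K848.HB.natDegree_hp_le k (isInv k r 1) hQ' hs.le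
      omega
  have hab := eq_of_eval hr hcase hpQ
  obtain rfl : a = -(d : ℤ) := by linarith
  have hp0 : K848.HB.hp k (Tw k r 1) (cokernel (RefHull.bidualMap (ClSub.idealMod I))) = 0 := by
    refine Polynomial.eq_of_infinite_eval_eq _ _
      (Set.infinite_of_injective_forall_mem (f := fun m : ℕ => (m : ℚ)) Nat.cast_injective fun m => ?_)
    rw [Set.mem_ofPred_eq, hpQ m, eval_zero, hab, sub_self]
  have hz : IsZero (cokernel (RefHull.bidualMap (ClSub.idealMod I))) := by
    by_contra hz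
    obtain ⟨s, hs⟩ := K849.HilbFacts.exists_dim k hz
    have h5 := (K849.HilbFacts.alpha_pos hQ' (K822.HilbMain.isAmple_one r k) hs
      (K848.HB.isHilbPoly_hp k (isInv k r 1) hQ')).2
    rw [hp0] at h5
    simp [StabCat.alpha] at h5
  have : Epi (RefHull.bidualMap (ClSub.idealMod I)) := Preadditive.epi_of_isZero_cokernel _ hz
  have : IsIso (RefHull.bidualMap (ClSub.idealMod I)) := isIso_of_mono_of_epi _
  exact ⟨asIso (RefHull.bidualMap (ClSub.idealMod I)) ≪≫ e⟩

end K992.HypIdeal
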