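import Groth.Agent.SDiv.K476.RegRef
import Groth.Agent.PerfC.FlatExact
import Groth.Agent.S16491
import Groth.Agent.S1690
import Groth.Agent.QGor.K967.SuppVan


/-!
# The reflexive hull of an ideal on a regular scheme

For a torsion free coherent `F` of rank one on a regular integral scheme: `F ⟶ F^**` is a monomorphism into an
invertible module and its cokernel is supported in codimension at least two.
-/

set_option autoImplicit false
universe u

open CategoryTheory CategoryTheory.Limits AlgebraicGeometry TopologicalSpace Opposite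
open RefHull K475.GenStalk K476.HomSh4 Groth.Agent.CycB.StalkExact

namespace K992.RefIdeal

section Gen

variable {X : Scheme.{u}}

theorem stalkLin_spec {M N : X.Modules} (φ : M ⟶ N) {x y : X} (h : y ⤳ x) (v : M.presheaf.stalk x) :
    stalkLin φ y (M.presheaf.stalkSpecializes h v) = N.presheaf.stalkSpecializes h (stalkLin φ x v) := by
  obtain ⟨U, hx, s, rfl⟩ := TopCat.Presheaf.exists_germ_eq M.presheaf v
  rw [stalkLin_germ, TopCat.Presheaf.germ_stalkSpecializes_apply, TopCat.Presheaf.germ_stalkSpecializes_apply,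
    stalkLin_germ]

theorem stalkLin_zero (M N : X.Modules) (x : X) (v : M.presheaf.stalk x) : stalkLin (0 : M ⟶ N) x v = 0 := by
  rw [coe_stalkLin, (stalkFun x).map_zero]
  rfl

variable [IsIntegral X]

theorem inj_of_mono {M N : X.Modules} (φ : M ⟶ N) [Mono φ] (hN : Inj N) : Inj M := by
  intro x
  rw [injective_iff_map_eq_zero]
  intro v hv
  apply stalkLin_injective φ x
  apply hN x
  rw [← stalkLin_spec, hv, map_zero, map_zero, map_zero]

variable [IsLocallyNoetherian X] {F : X.Modules} (hF : Coh.IsCoh F) (hr : GenInvertible F) (hinj : Inj F)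

include hF hr hinj in
theorem mono_bidual : Mono (bidualMap F) := by
  rw [Groth.Agent.PerfC.FlatExact.mono_iff_stalkLin]
  intro x
  rw [injective_iff_map_eq_zero]
  intro v hv
  apply hinj x
  rw [map_zero]
  obtain ⟨t, ht⟩ := K476.Ref1.exists_isGen_eta hr
  have h1 := bijective_stalkMapₗ_bidualMap_of_free hF (η X) (K476.Ref1.free_of_isGen ht)
  apply h1.1
  rw [map_zero, K476.HomSh1.stalkMapₗ_eq]
  refine (stalkLin_spec (bidualMap F) (spec x) v).trans ?_
  have hv' : stalkLin (bidualMap F) x v = 0 := hv
  rw [hv', map_zero]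

include hF hr hinj in
theorem two_le (hreg : ∀ x : X, IsRegularLocalRing (X.presheaf.stalk x)) {x : X}
    (hx : x ∈ CohB1.support (cokernel (bidualMap F))) : (2 : WithBot ℕ∞) ≤ ringKrullDim (X.presheaf.stalk x) := by
  by_contra hlt
  have hle : ringKrullDim (X.presheaf.stalk x) ≤ 1 := Groth.Agent.S1690.le_one_of_not _ hlt
  have hX := K476.RegRef.isNormalScheme_of_regular hreg
  have h0 := (hX x).1
  have h1 := (hX x).2
  have hp := Groth.Agent.Divis.ReflexAlg.isPrincipalIdealRing_of_isIntegrallyClosed hle
  obtain ⟨t, ht⟩ := K476.Ref1.exists_isGen_of_pid hF hr x hp (isTorsionFree_of_inj hinj x)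
  have hb := bijective_stalkMapₗ_bidualMap_of_free hF x (K476.Ref1.free_of_isGen ht)
  rw [K476.HomSh1.stalkMapₗ_eq] at hb
  apply hx
  refine ⟨fun a b => ?_⟩
  have key : ∀ a : (cokernel (bidualMap F)).presheaf.stalk x, a = 0 := by
    intro a
    obtain ⟨c, rfl⟩ := stalkLin_surjective (cokernel.π (bidualMap F)) x a
    obtain ⟨v, rfl⟩ := hb.2 c
    have h2 : stalkLin (bidualMap F ≫ cokernel.π (bidualMap F)) x v = 0 := by
      rw [cokernel.condition]
      exact stalkLin_zero F (cokernel (bidualMap F)) x v
    rw [stalkLin_comp] at h2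
    exact h2
  rw [key a, key b]

end Gen

section Dim

/-- A closed subset all of whose points have codimension at least `c`. -/
theorem dim_add_le {X : Scheme.{u}} {n : ℕ} (hn : topologicalKrullDim X ≤ n) {Z : Set X} (hZ : IsClosed Z) {c : ℕ}
    (h : ∀ x ∈ Z, (c : WithBot ℕ∞) ≤ ringKrullDim (X.presheaf.stalk x)) {s : ℕ}
    (hs : topologicalKrullDim Z = s) : s + c ≤ n := by
  have : QuasiSober Z := hZ.isClosedEmbedding_subtypeVal.quasiSober
  have h2 : ∀ a b : Z, (a : X) ⤳ b ↔ a ⤳ b := fun a b => Topology.IsInducing.subtypeVal.specializes_iff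
  let e : IrreducibleCloseds Z ≃o Z :=
    { toEquiv := (irreducibleSetEquivPoints (α := Z)).toEquiv
      map_rel_iff' := by
        intro a b
        refine Iff.trans ?_ ((irreducibleSetEquivPoints (α := Z)).map_rel_iff (a := a) (b := b))
        exact h2 _ _ }
  have h1 : topologicalKrullDim Z = Order.krullDim Z := Order.krullDim_eq_of_orderIso e
  rw [h1] at hs
  have : Nonempty Z := by
    by_contra hemp
    rw [not_nonempty_iff] at hemp
    rw [Order.krullDim_eq_bot] at hs
    exact absurd hs.symm (WithBot.coe_ne_bot)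
  obtain ⟨p, hp⟩ := (Order.le_krullDim_iff (n := s)).1 hs.ge
  have hmono : StrictMono (fun z : Z => (z.1 : X)) := fun a b hab => hab
  have key := K967.SuppVan.length_add_le (X := X) (p.map _ hmono) hn (c := c) (h _ (p.last).2)
  have h13 : (p.map _ hmono).length = p.length := rfl
  omega

end Dim

end K992.RefIdeal
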